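import Groth.Agent.SBSepLib.Main
import Mathlib.FieldTheory.SeparableClosure
import Mathlib.FieldTheory.PurelyInseparable.Basic

/-! Every twisting sheaf is the type of an indecomposable bundle. -/

set_option autoImplicit false
set_option linter.style.haveILetI false
set_option linter.unusedSectionVars false
set_option maxHeartbeats 1000000
universe u

noncomputable section

open CategoryTheory CategoryTheory.Limits AlgebraicGeometry TopologicalSpace
open KFlatLib (pb)
open W4c1astiltbs12 (pow galAct)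

namespace SBSep

attribute [local instance] Abelian.hasFiniteBiproducts

variable {k : Type u} [Field k] {X : Scheme.{u}} {f : X ⟶ Spec (CommRingCat.of k)} [IsProper f]
  {K : Type u} [Field K] [Algebra k K] {n : ℕ}

omit [IsProper f] in
theorem twist_add (e : BrSev.Splitting f K n) (a b : ℤ) :
    Nonempty (CohB1.tensorMod (e.twist a) (e.twist b) ≅ e.twist (a + b)) := by
  obtain ⟨c⟩ := PicPnLib.twist_add n K a b
  exact ⟨(PicPnLib.pullTens _ _ _).symm ≪≫ (Scheme.Modules.pullback e.iso.hom).mapIso c⟩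

omit [IsProper f] in
theorem twist_zero (e : BrSev.Splitting f K n) : Nonempty (e.twist 0 ≅ Coh.structureModule _) := by
  obtain ⟨b⟩ := PicPnLib.twist_zero n K
  exact ⟨(Scheme.Modules.pullback e.iso.hom).mapIso b ≪≫ KFlatLib.pullUnitIso _⟩

/-- Tensor powers of a line bundle have every type. -/
theorem exists_twists {W : X.Modules} (e : BrSev.Splitting f K n) (hW : PicF.IsInvertible W)
    (hWt : BrSev.IsTwPow e 1 1 W) (j : ℤ) :
    ∃ V : X.Modules, PicF.IsInvertible V ∧ Nonempty (BrSev.bcMod f K V ≅ e.twist j) := by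
  obtain ⟨w⟩ := hWt
  let w' : BrSev.bcMod f K W ≅ e.twist 1 := w ≪≫ coproductUniqueIso _
  obtain ⟨W', hW', ⟨d'⟩⟩ : ∃ W' : X.Modules, PicF.IsInvertible W' ∧ Nonempty (BrSev.bcMod f K W' ≅ e.twist (-1)) := by
    obtain ⟨d⟩ := MiscFlat6.nonempty_dualIso (L := W) hW
    refine ⟨MiscFlat6.dual W, MiscFlat6.dual_isInvertible (L := W) hW, ?_⟩
    obtain ⟨c⟩ := twist_add e 1 (-1)
    obtain ⟨z⟩ := twist_zero e
    let P := Scheme.Modules.pullback (BrSev.proj f K)
    obtain ⟨q⟩ := PicPnLib.nonempty_cancel (A := BrSev.bcMod f K (MiscFlat6.dual W)) (B := e.twist 1)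
      (B' := e.twist (-1)) (HilbPolyLib.swapIso _ _ ≪≫ HilbPolyLib.congrLeft w'.symm _ ≪≫
        (PicPnLib.pullTens _ _ _).symm ≪≫ P.mapIso d ≪≫ KFlatLib.pullUnitIso _)
      (c ≪≫ eqToIso (by rw [add_neg_cancel]) ≪≫ z)
    exact ⟨q ≪≫ HilbPolyLib.unitLeft _⟩
  have step : ∀ (a b : ℤ) (A B : X.Modules), Nonempty (BrSev.bcMod f K A ≅ e.twist a) →
      Nonempty (BrSev.bcMod f K B ≅ e.twist b) → Nonempty (BrSev.bcMod f K (CohB1.tensorMod A B) ≅ e.twist (a + b)) :=
    fun a b A B ⟨α⟩ ⟨β⟩ => by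
      obtain ⟨c⟩ := twist_add e a b
      exact ⟨PicPnLib.pullTens _ _ _ ≪≫ HilbPolyLib.congrLeft α _ ≪≫ HilbPolyLib.congrRight _ β ≪≫ c⟩
  induction j using Int.induction_on with
  | zero =>
    obtain ⟨z⟩ := twist_zero e
    exact ⟨Coh.structureModule X, CurvLib.isInvertible_structureModule, ⟨KFlatLib.pullUnitIso _ ≪≫ z.symm⟩⟩
  | succ j ih =>
    obtain ⟨V, hV, hv⟩ := ih
    exact ⟨_, HilbPolyLib.isInvertible_tensor hV hW, step _ _ _ _ hv ⟨w'⟩⟩
  | pred j ih =>
    obtain ⟨V, hV, hv⟩ := ih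
    obtain ⟨v⟩ := step _ _ _ _ hv ⟨d'⟩
    exact ⟨_, HilbPolyLib.isInvertible_tensor hV hW', ⟨v ≪≫ eqToIso (by rw [sub_eq_add_neg])⟩⟩

/-- Every twisting sheaf is the type of an indecomposable bundle; over the separable closure it is a line bundle. -/
theorem exists_indec [IsAlgClosure k K] (e : BrSev.Splitting f K n) (j : ℤ) :
    ∃ (W : X.Modules) (r : ℕ), FlatMod.IsFinLocFree W ∧ KSMod.Indec W ∧ 0 < r ∧ BrSev.IsTwPow e j r W := by
  haveI : IsAlgClosed K := IsAlgClosure.isAlgClosed k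
  haveI : Algebra.IsAlgebraic k K := IsAlgClosure.isAlgebraic
  let F := separableClosure k K
  haveI : IsGalois k F := separableClosure.isGalois k K
  haveI : IsSepClosure k F := separableClosure.isSepClosure k K
  haveI : IsSepClosed F := IsSepClosure.sep_closed k
  haveI : Algebra.IsAlgebraic F K := Algebra.IsAlgebraic.tower_top (K := k) (A := K) (L := F)
  haveI : IsAlgClosure F K := ⟨inferInstance, inferInstance⟩
  haveI : IsProper (BrSev.bcTo f F) := MorphismProperty.pullback_snd _ _ ‹IsProper f›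
  haveI : IsLocallyNoetherian (BrSev.bc f F) := LocallyOfFiniteType.isLocallyNoetherian (BrSev.bcTo f F)
  let β := KSMod.bcUpSq (p := f) (F := F) (K := K)
  let i := β.sq.isoPullback
  let eF : BrSev.Splitting (BrSev.bcTo f F) K n := ⟨i.symm ≪≫ e.iso, by
    rw [Iso.trans_hom, Category.assoc, e.comm, Iso.symm_hom, Iso.inv_comp_eq]
    exact β.sq.isoPullback_hom_snd.symm⟩
  obtain ⟨W₁, hW₁, hW₁t⟩ := exists_line eF
  obtain ⟨W, hW, ⟨w⟩⟩ := exists_twists eF hW₁ hW₁t j
  let wK : pb (KSMod.bcUp f F K) W ≅ e.twist j :=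
    ((Scheme.Modules.pullbackCongr (show i.hom ≫ BrSev.proj (BrSev.bcTo f F) K = KSMod.bcUp f F K from
      β.sq.isoPullback_hom_fst)).app W).symm ≪≫ ((Scheme.Modules.pullbackComp _ _).app W).symm ≪≫
      (Scheme.Modules.pullback i.hom).mapIso w ≪≫ (Scheme.Modules.pullbackComp i.hom eF.iso.hom).app _ ≪≫
      (Scheme.Modules.pullbackCongr (show i.hom ≫ eF.iso.hom = e.iso.hom from Iso.hom_inv_id_assoc i _)).app _
  have hWlf := AmpleDevLib.isFinLocFree_of_isInvertible hW
  have hWc := Groth.Agent.PerfLib.isCoh_of_isFinLocFree hWlf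
  letI : (BrSev.bc f F).Over (Spec (CommRingCat.of F)) := ⟨BrSev.bcTo f F⟩
  haveI : IsProper (BrSev.bc f F ↘ Spec (CommRingCat.of F)) := ‹IsProper (BrSev.bcTo f F)›
  letI : (BrSev.bc f K).Over (Spec (CommRingCat.of K)) := ⟨BrSev.bcTo f K⟩
  haveI : IsProper (BrSev.bc f K ↘ Spec (CommRingCat.of K)) :=
    inferInstanceAs (IsProper (pullback.snd f (Spec.map (CommRingCat.ofHom (algebraMap k K)))))
  haveI := SBAmitsur.isIntegral_of_splitting eF
  haveI : Normal k K := inferInstance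
  have hinv : ∀ σ : F ≃ₐ[k] F, Nonempty ((Scheme.Modules.pullback (galAct f F σ)).obj W ≅ W) := fun σ => by
    obtain ⟨t⟩ := KSMod.pullback_twist_iso e (galAct f K (σ.liftNormal K)) j
    exact KSMod.noetherDeuring β (ConsLib.isCoh_pullback _ hWc) hWc
      ((Scheme.Modules.pullbackComp _ _).app W ≪≫ (Scheme.Modules.pullbackCongr (KSMod.bcUp_galAct σ)).app W ≪≫
        ((Scheme.Modules.pullbackComp _ _).app W).symm ≪≫ (Scheme.Modules.pullback _).mapIso wK ≪≫ t ≪≫ wK.symm)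
  obtain ⟨M, r, hM, hMi, hr, ⟨u⟩⟩ :=
    KSMod.exists_indec_of_invariant (p := f) (K := F) hWlf (KSMod.indec_invertible (BrSev.bcTo f F) hW) hinv
  let Q := Scheme.Modules.pullback (KSMod.bcUp f F K)
  exact ⟨M, r, hM, hMi, hr, ⟨((Scheme.Modules.pullbackCongr (KSMod.bcUp_fst (p := f) (F := F) (K := K))).app M).symm ≪≫
      ((Scheme.Modules.pullbackComp (KSMod.bcUp f F K) (BrSev.proj f F)).app M).symm ≪≫ Q.mapIso u ≪≫
      PreservesCoproduct.iso Q _ ≪≫ Sigma.mapIso fun _ => wK⟩⟩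

end SBSep
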