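import Groth.Agent.SBSepLib.Indec
import Groth.Agent.SeesawLib.Ranks
import Groth.Agent.SBTwLib.EndAlg
import Groth.Agent.AVThetaLib.Scalar
import Groth.Agent.ProjConstLib.Main
import Groth.Agent.GenusZeroLib.PSpace
import Groth.Agent.S14226

/-! Rational points of Severi–Brauer varieties. -/

set_option autoImplicit false
set_option linter.style.haveILetI false
set_option linter.unusedSectionVars false
set_option maxHeartbeats 1000000
universe u

noncomputable section

open CategoryTheory CategoryTheory.Limits AlgebraicGeometry TopologicalSpace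
open KFlatLib (pb)
open W4c1astiltbs12 (pow)
open MvPolynomial (X C)

namespace SBSep

attribute [local instance] Abelian.hasFiniteBiproducts

variable {k : Type u} [Field k] {Z : Scheme.{u}} {f : Z ⟶ Spec (CommRingCat.of k)} [IsProper f]

theorem smul_id_eq [Z.Over (Spec (CommRingCat.of k))] (W : Z.Modules) (c : k) :
    c • 𝟙 W = StabLib.smulHom W (Coh.toGlobal (Z ↘ Spec (CommRingCat.of k)) c) := by
  refine Scheme.Modules.hom_ext _ _ fun U => ConcreteCategory.hom_ext _ _ fun m => ?_
  rw [KLin.smul_app_apply, StabLib.smulHom_app]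
  rfl

/-- A rational point forces multiplicity one. -/
theorem eq_one_of_point {K : Type u} [Field K] [Algebra k K] {n : ℕ} (e : BrSev.Splitting f K n)
    (σ : Spec (CommRingCat.of k) ⟶ Z) (hσ : σ ≫ f = 𝟙 _) {W : Z.Modules} (hW : FlatMod.IsFinLocFree W)
    (hWi : KSMod.Indec W) {j : ℤ} {r : ℕ} (hr : 0 < r) (hWt : BrSev.IsTwPow e j r W) : r = 1 := by
  obtain ⟨u⟩ := hWt
  letI : Z.Over (Spec (CommRingCat.of k)) := ⟨f⟩
  haveI : IsProper (Z ↘ Spec (CommRingCat.of k)) := ‹IsProper f›
  haveI := CurvLib.isNoetherian k (X := Z)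
  haveI := SBAmitsur.isIntegral_of_splitting e
  letI : (BrSev.bc f K).Over (Spec (CommRingCat.of K)) := ⟨BrSev.bcTo f K⟩
  haveI : IsProper (BrSev.bc f K ↘ Spec (CommRingCat.of K)) :=
    inferInstanceAs (IsProper (pullback.snd f (Spec.map (CommRingCat.ofHom (algebraMap k K)))))
  letI : (Spec (CommRingCat.of k)).Over (Spec (CommRingCat.of k)) := ⟨𝟙 _⟩
  haveI : Subsingleton ↥(Spec (CommRingCat.of k)) := inferInstanceAs (Subsingleton (PrimeSpectrum k))
  have hWc := Groth.Agent.PerfLib.isCoh_of_isFinLocFree hW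
  haveI := hWc.1
  obtain ⟨h1, h2, h3⟩ := SBTw.end_csa (KSMod.bcSq f K) rfl rfl hWc (TwistEmbed.bijective_smul_twist e j rfl) hr u
  haveI := h1
  haveI := h2
  haveI : FiniteDimensional k (End W) := KSMod.finite_hom hWc hWc
  -- the rank at the point
  let pt : ↥(Spec (CommRingCat.of k)) := IsLocalRing.closedPoint k
  let V := pb σ W
  obtain ⟨r', hr'⟩ := SeesawLib.exists_mem_rankSet hW (σ pt)
  obtain ⟨w, hw⟩ := ProjConstLib.exists_point (k := K) (n := n)
  let z := w ≫ e.iso.inv
  let Q := Scheme.Modules.pullback z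
  obtain ⟨τ⟩ := PicPnLib.trivial_on_field (AmpleDevLib.isInvertible_pb z (KSMod.isInvertible_twist e j))
  have hzr : BrSev.proj f K (z (IsLocalRing.closedPoint K)) ∈ SeesawLib.RankSet W r := by
    refine (SeesawLib.mem_rankSet_pullback_iff hW (z ≫ BrSev.proj f K) (IsLocalRing.closedPoint K) r).1 ?_
    exact SeesawLib.rankSet_of_iso (((Scheme.Modules.pullbackComp z (BrSev.proj f K)).app W).symm ≪≫ Q.mapIso u ≪≫
      PreservesCoproduct.iso Q _ ≪≫ Sigma.mapIso fun _ => τ).symm (SeesawLib.rankSet_freeMod _ r _)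
  obtain ⟨x, hx, hx'⟩ := nonempty_preirreducible_inter (SeesawLib.isOpen_rankSet W r') (SeesawLib.isOpen_rankSet W r)
    ⟨_, hr'⟩ ⟨_, hzr⟩
  obtain rfl : r' = r := SeesawLib.rankSet_unique hx hx'
  obtain ⟨U, m, hU, hφ⟩ := CohCmpLib.isFinLocFree_pb σ hW pt
  obtain ⟨ψ⟩ := HorrocksPn.free_of_subsingleton pt ⟨U, hU, hφ⟩
  obtain rfl : m = r' := SeesawLib.rankSet_unique
    (SeesawLib.rankSet_of_iso ψ.symm (SeesawLib.rankSet_freeMod _ m pt))
    ((SeesawLib.mem_rankSet_pullback_iff hW σ pt r').2 hr')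
  -- endomorphisms of the fibre
  let O := Coh.structureModule (Spec (CommRingCat.of k))
  have hO : PicF.IsInvertible O := CurvLib.isInvertible_structureModule
  have hgl : Function.Bijective (Coh.toGlobal ((Spec (CommRingCat.of k)) ↘ Spec (CommRingCat.of k))) :=
    ConcreteCategory.bijective_of_isIso (Scheme.ΓSpecIso (CommRingCat.of k)).inv
  have hb : Function.Bijective fun a : k => a • 𝟙 O := by
    refine ⟨fun a b h => hgl.1 (AVThetaLib.smulHom_injective hO ?_), fun φ => ?_⟩
    · rw [← smul_id_eq, ← smul_id_eq]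
      exact h
    · obtain ⟨c, hc⟩ := AVThetaLib.exists_eq_smulHom hO φ
      obtain ⟨a, rfl⟩ := hgl.2 c
      exact ⟨a, (smul_id_eq O a).trans hc.symm⟩
  let ψ' : V ≅ ⨁ fun _ : Fin m => O := ψ ≪≫ (biproduct.isoCoproduct _).symm
  let Λ : (V ⟶ V) ≃ₗ[k] Matrix (Fin m) (Fin m) k := (Linear.homCongr k ψ' ψ').trans (SBTw.matLin hb m)
  let Φ : End W →ₐ[k] End V :=
    { toFun := fun a => (Scheme.Modules.pullback σ).map a
      map_one' := (Scheme.Modules.pullback σ).map_id W
      map_mul' := fun a b => (Scheme.Modules.pullback σ).map_comp b a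
      map_zero' := (Scheme.Modules.pullback σ).map_zero _ _
      map_add' := fun a b => (Scheme.Modules.pullback σ).map_add
      commutes' := fun c => by
        show (Scheme.Modules.pullback σ).map (c • 𝟙 W) = c • 𝟙 V
        rw [smul_id_eq, smul_id_eq, AVThetaLib.pullback_map_smulHom]
        congr 1
        show σ.appTop (f.appTop ((Scheme.ΓSpecIso (CommRingCat.of k)).inv c)) = _
        rw [← CommRingCat.comp_apply f.appTop, ← Scheme.Hom.comp_appTop, hσ]
        rfl }
  haveI : Nontrivial (End V) := by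
    refine ⟨⟨1, 0, fun h => ?_⟩⟩
    have h1 : Λ (𝟙 V) = Λ 0 := congrArg Λ h
    rw [map_zero] at h1
    have h2 : Λ (𝟙 V) = 1 := by
      simp only [Λ, LinearEquiv.trans_apply, Linear.homCongr_apply, Category.comp_id]
      rw [Iso.inv_hom_id]
      exact SBTw.matLin_id hb m
    have := congrFun (congrFun (h2.symm.trans h1) ⟨0, hr⟩) ⟨0, hr⟩
    simp at this
  have hΦ : Function.Injective Φ := Φ.toRingHom.injective
  haveI : FiniteDimensional k (End V) := Module.Finite.equiv Λ.symm
  have hbij : Function.Bijective Φ := by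
    refine ⟨hΦ, (LinearMap.injective_iff_surjective_of_finrank_eq_finrank (f := Φ.toLinearMap) ?_).1 hΦ⟩
    rw [h3]
    refine Eq.trans ?_ (LinearEquiv.finrank_eq Λ).symm
    rw [Module.finrank_matrix, Fintype.card_fin, Module.finrank_self, mul_one]
  by_contra hne
  let i₀ : Fin m := ⟨0, hr⟩
  let i₁ : Fin m := ⟨1, by omega⟩
  have hi : i₀ ≠ i₁ := fun h => by simp [i₀, i₁] at h
  let E := Matrix.single i₀ i₀ (1 : k)
  have hmul : ∀ a b : V ⟶ V, Λ (a ≫ b) = Λ b * Λ a := fun a b => by
    simp only [Λ, LinearEquiv.trans_apply, Linear.homCongr_apply]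
    rw [← SBTw.matLin_comp]
    simp
  have h2 : Λ (𝟙 V) = 1 := by
    simp only [Λ, LinearEquiv.trans_apply, Linear.homCongr_apply, Category.comp_id]
    rw [Iso.inv_hom_id]
    exact SBTw.matLin_id hb m
  let a : End V := Λ.symm E
  have ha : IsIdempotentElem a := by
    show (a : V ⟶ V) ≫ a = a
    apply Λ.injective
    rw [hmul, Λ.apply_symm_apply, Matrix.single_mul_single_same, mul_one]
  obtain ⟨b, hba⟩ := hbij.2 a
  have hbi : IsIdempotentElem b := hΦ (by rw [map_mul, hba]; exact ha)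
  rcases KSMod.idem_end hWi b hbi with h | h
  · rw [h, map_zero] at hba
    have h' : E = 0 := by rw [← Λ.apply_symm_apply E]; exact (congrArg Λ hba.symm).trans (map_zero Λ)
    have := congrFun (congrFun h' i₀) i₀
    simp [E] at this
  · rw [h, map_one] at hba
    have h' : E = 1 := by rw [← Λ.apply_symm_apply E]; exact (congrArg Λ hba.symm).trans h2
    have := congrFun (congrFun h' i₁) i₁
    simp [E, Matrix.one_apply_eq, hi] at this

/-- A rational point splits. -/
theorem split_of_point {n : ℕ} {K₀ : Type u} [Field K₀] [Algebra k K₀] [FiniteDimensional k K₀]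
    (e₀ : BrSev.Splitting f K₀ n) (σ : Spec (CommRingCat.of k) ⟶ Z) (hσ : σ ≫ f = 𝟙 _) :
    Nonempty (BrSev.Splitting f k n) := by
  let K := AlgebraicClosure k
  let ι : K₀ →ₐ[k] K := IsAlgClosed.lift
  letI : Algebra K₀ K := ι.toRingHom.toAlgebra
  haveI : IsScalarTower k K₀ K := IsScalarTower.of_algebraMap_eq fun x => (ι.commutes x).symm
  obtain ⟨e⟩ := splitting_ext e₀ (M := K)
  obtain ⟨W, r, hW, hWi, hr, hWt⟩ := exists_indec e 1
  obtain rfl := eq_one_of_point e σ hσ hW hWi hr hWt
  have hWinv := SBTaut.isInvertible_of_isTwPow_one e hW hWt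
  obtain ⟨u⟩ := hWt
  letI : Z.Over (Spec (CommRingCat.of k)) := ⟨f⟩
  haveI : IsProper (Z ↘ Spec (CommRingCat.of k)) := ‹IsProper f›
  haveI := CurvLib.isNoetherian k (X := Z)
  haveI : IsProper (BrSev.bcTo f K₀) := MorphismProperty.pullback_snd _ _ ‹IsProper f›
  letI : (BrSev.bc f K₀).Over (Spec (CommRingCat.of K₀)) := ⟨BrSev.bcTo f K₀⟩
  haveI : IsProper (BrSev.bc f K₀ ↘ Spec (CommRingCat.of K₀)) := ‹IsProper (BrSev.bcTo f K₀)›
  haveI : IsLocallyNoetherian (BrSev.bc f K₀) := LocallyOfFiniteType.isLocallyNoetherian (BrSev.bcTo f K₀)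
  letI : (BrSev.bc f K).Over (Spec (CommRingCat.of K)) := ⟨BrSev.bcTo f K⟩
  haveI : IsProper (BrSev.bc f K ↘ Spec (CommRingCat.of K)) :=
    inferInstanceAs (IsProper (pullback.snd f (Spec.map (CommRingCat.ofHom (algebraMap k K)))))
  obtain ⟨t⟩ := KSMod.pullback_twist_bcUp e e₀ 1
  have hWc := Groth.Agent.PerfLib.isCoh_of_isFinLocFree hW
  haveI := hWc.1
  obtain ⟨u₀⟩ := KSMod.noetherDeuring (KSMod.bcUpSq (p := f) (F := K₀) (K := K))
    (F := BrSev.bcMod f K₀ W) (G := e₀.twist 1) (ConsLib.isCoh_pullback (BrSev.proj f K₀) hWc)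
    (Groth.Agent.PerfLib.isCoh_of_isFinLocFree (AmpleDevLib.isFinLocFree_of_isInvertible (KSMod.isInvertible_twist e₀ 1)))
    ((Scheme.Modules.pullbackComp (KSMod.bcUp f K₀ K) (BrSev.proj f K₀)).app W ≪≫
      (Scheme.Modules.pullbackCongr (KSMod.bcUp_fst (p := f) (F := K₀) (K := K))).app W ≪≫ u ≪≫ coproductUniqueIso _ ≪≫ t.symm)
  obtain ⟨N, ρ, hN, hρ, hρf, -⟩ := TwistEmbed.exists_embedding f e₀ (d := 1) one_pos hWinv
    (by exact_mod_cast (⟨u₀ ≪≫ (coproductUniqueIso (fun _ : Fin 1 => e₀.twist 1)).symm⟩ : BrSev.IsTwPow e₀ 1 1 W))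
  obtain rfl : N = n := by rw [Nat.choose_one_right] at hN; omega
  haveI : Nonempty (BrSev.bc f K₀) := ⟨e₀.iso.inv (GenusZeroLib.genPt K₀ N)⟩
  haveI : Nonempty Z := ⟨BrSev.proj f K₀ (Classical.arbitrary _)⟩
  haveI : IsFinite (BrSev.proj f K₀) := by
    haveI : IsFinite (Spec.map (CommRingCat.ofHom (algebraMap k K₀))) := by
      rw [IsFinite.SpecMap_iff]
      exact RingHom.finite_algebraMap.mpr inferInstance
    exact MorphismProperty.pullback_fst _ _ this
  haveI : Surjective (BrSev.proj f K₀) := (KSMod.bcSq f K₀).surjective_g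
  haveI : IsIso ρ := GenusZeroLib.isIso_of_isClosedImmersion k N ρ (by
    rw [← AbSchLib.topologicalKrullDim_eq_of_finite_surjective (BrSev.proj f K₀), ← GenusZeroLib.dim_projSpace K₀ N]
    exact IsHomeomorph.topologicalKrullDim_eq _ e₀.iso.hom.homeomorph.isHomeomorph)
  have h1 : Spec.map (CommRingCat.ofHom (algebraMap k k)) = 𝟙 (Spec (CommRingCat.of k)) := Spec.map_id (CommRingCat.of k)
  haveI : IsIso (Spec.map (CommRingCat.ofHom (algebraMap k k))) := by rw [h1]; infer_instance
  haveI : IsIso (BrSev.proj f k) :=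
    inferInstanceAs (IsIso (pullback.fst f (Spec.map (CommRingCat.ofHom (algebraMap k k)))))
  refine ⟨⟨asIso (BrSev.proj f k ≫ ρ), ?_⟩⟩
  rw [asIso_hom, Category.assoc, hρf]
  show pullback.fst f _ ≫ f = pullback.snd f _
  rw [pullback.condition, h1, Category.comp_id]

omit [IsProper f] in
/-- Birational to projective space iff split. -/
theorem birationalOver_iff_split {n : ℕ} (hX : BrSev.IsBS f n) :
    Scheme.BirationalOver f (CohB1.ProjSpace.toSpec n k) ↔ Nonempty (BrSev.Splitting f k n) := by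
  constructor
  · intro hb
    cases finite_or_infinite k with
    | inl _ => exact Groth.Agent.S14226.result k f n hX
    | inr _ =>
      obtain ⟨K₀, _, _, _, ⟨e₀⟩⟩ := id hX
      haveI : IsProper f := SBTaut.isProper_of_splitting e₀
      obtain ⟨P, hP⟩ := hb.trans (SBStable.affine_birationalOver_projSpace k n).symm
      obtain ⟨y, hy⟩ := P.dense_target.nonempty
      obtain ⟨D, ⟨g, rfl⟩, hg, hgU⟩ :=
        Opens.isBasis_iff_nbhd.mp PrimeSpectrum.isBasis_basic_opens (show y ∈ P.target from hy)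
      have hg0 : g ≠ 0 := fun h => by simp [h] at hg
      obtain ⟨a, ha⟩ : ∃ a : Fin n → k, MvPolynomial.eval a g ≠ 0 := by
        by_contra hc
        simp only [not_exists, not_not] at hc
        exact hg0 (MvPolynomial.funext fun a => by rw [hc a, map_zero])
      let ε : MvPolynomial (Fin n) k →ₐ[k] k := MvPolynomial.aeval a
      let pt : Spec (CommRingCat.of k) ⟶ Spec (CommRingCat.of (MvPolynomial (Fin n) k)) :=
        Spec.map (CommRingCat.ofHom ε.toRingHom)
      have hpt : pt ≫ SBStable.aff k n = 𝟙 _ := by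
        rw [show pt ≫ SBStable.aff k n = Spec.map (CommRingCat.ofHom (algebraMap k (MvPolynomial (Fin n) k)) ≫
          CommRingCat.ofHom ε.toRingHom) from (Spec.map_comp _ _).symm, ← Spec.map_id]
        congr 1
        ext c
        exact ε.commutes c
      have hran : Set.range pt ⊆ Set.range P.target.ι := by
        rintro _ ⟨z, rfl⟩
        rw [Scheme.Opens.range_ι]
        refine hgU ?_
        show g ∉ Ideal.comap ε.toRingHom z.asIdeal
        rw [Ideal.mem_comap, z.asIdeal.eq_bot_of_prime, Ideal.mem_bot]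
        exact fun h => ha (by rw [← MvPolynomial.coe_aeval_eq_eval]; exact h)
      let q := IsOpenImmersion.lift P.target.ι pt hran
      refine split_of_point e₀ (q ≫ P.iso.inv ≫ P.source.ι) ?_
      have hP' : P.iso.hom ≫ P.target.ι ≫ SBStable.aff k n = P.source.ι ≫ f := hP
      rw [Category.assoc, Category.assoc, ← hP', Iso.inv_hom_id_assoc, IsOpenImmersion.lift_fac_assoc, hpt]
  · rintro ⟨e⟩
    have h1 : Spec.map (CommRingCat.ofHom (algebraMap k k)) = 𝟙 (Spec (CommRingCat.of k)) := Spec.map_id (CommRingCat.of k)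
    haveI : IsIso (Spec.map (CommRingCat.ofHom (algebraMap k k))) := by rw [h1]; infer_instance
    haveI : IsIso (BrSev.proj f k) :=
      inferInstanceAs (IsIso (pullback.fst f (Spec.map (CommRingCat.ofHom (algebraMap k k)))))
    refine SBStable.birationalOver_of_iso ((asIso (BrSev.proj f k)).symm ≪≫ e.iso) ?_
    rw [Iso.trans_hom, Iso.symm_hom, asIso_inv, Category.assoc, e.comm, IsIso.inv_comp_eq]
    exact (pullback.condition.trans ((congrArg (pullback.snd f _ ≫ ·) h1).trans (Category.comp_id _))).symm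

end SBSep
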