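import Groth.Agent.SBSepLib.Push
import Groth.Agent.SBStableLib.Main
import Groth.Agent.KSModLib.SepDescend
import Groth.Agent.SBTautLib.Descent
import Groth.Agent.SBTautLib.Proper
import Groth.Agent.TwistEmbedLib.Finite
import Groth.Agent.RpushLib.AffBaseBC
import Groth.Agent.PnCohLib.Split

/-! Severi–Brauer varieties: splitting over a separably closed field, and indecomposables of every type. -/

set_option autoImplicit false
set_option linter.style.haveILetI false
set_option linter.unusedSectionVars false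
set_option maxHeartbeats 1000000
universe u

noncomputable section

open CategoryTheory CategoryTheory.Limits AlgebraicGeometry TopologicalSpace
open KFlatLib (pb)
open W4c1astiltbs12 (pow galAct)
open scoped TensorProduct

namespace SBSep

attribute [local instance] Abelian.hasFiniteBiproducts

theorem h1_projSpace (n : ℕ) (K : Type u) [Field K] :
    Subsingleton (Coh.HH (CohB1.ProjSpace n K) (Coh.structureModule (CohB1.ProjSpace n K)) 1) := by
  have h := PnCohLib.lift_twist_biproduct (n := n) K (fun _ : Fin 1 => (0 : ℤ)) 0 1 fun _ =>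
    ⟨fun h => by omega, fun h => by omega⟩
  obtain ⟨b⟩ := PicPnLib.twist_zero n K
  exact SerreVanLib.subsingleton_HH_of_iso (((CurvLib.tensorLeft' (Twist.twistProjSpace n K 0)).mapIso
    (biproduct.isoCoproduct _ ≪≫ coproductUniqueIso _ ≪≫ eqToIso (by rw [neg_zero]) ≪≫ b) ≪≫
      PicPnLib.unitRight _ ≪≫ b).symm) 1 h

theorem projSplitting_up {k : Type u} [Field k] {X : Scheme.{u}} {f : X ⟶ Spec (CommRingCat.of k)}
    {F M : Type u} [Field F] [Algebra k F] [Field M] [Algebra k M] [Algebra F M] [IsScalarTower k F M] {n : ℕ}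
    (e : BrSev.Splitting f M n) : Nonempty (BrSev.Splitting (BrSev.bcTo f F) M n) := by
  let i := (KSMod.bcUpSq (p := f) (F := F) (K := M)).sq.isoPullback
  refine ⟨⟨i.symm ≪≫ e.iso, ?_⟩⟩
  rw [Iso.trans_hom, Category.assoc, e.comm, Iso.symm_hom, Iso.inv_comp_eq]
  exact (KSMod.bcUpSq (p := f) (F := F) (K := M)).sq.isoPullback_hom_snd.symm

variable {k : Type u} [Field k] {X : Scheme.{u}} {f : X ⟶ Spec (CommRingCat.of k)} [IsProper f]
  {K : Type u} [Field K] [Algebra k K] {n : ℕ}

theorem splitting_ext (e : BrSev.Splitting f K n) {M : Type u} [Field M] [Algebra k M] [Algebra K M]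
    [IsScalarTower k K M] : Nonempty (BrSev.Splitting f M n) := by
  obtain ⟨e'⟩ := SBStable.projSplitting K n M
  let sq := (KSMod.bcUpSq (p := f) (F := K) (K := M)).sq
  have sq' : IsPullback (KSMod.bcUp f K M ≫ e.iso.hom) (BrSev.bcTo f M) (CohB1.ProjSpace.toSpec n K)
      (Spec.map (CommRingCat.ofHom (algebraMap K M))) :=
    IsPullback.of_iso sq (Iso.refl _) e.iso (Iso.refl _) (Iso.refl _) (by simp [KSMod.bcUpSq])
      (by simp [KSMod.bcUpSq]) (by simp [KSMod.bcUpSq, e.comm]) (by simp)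
  refine ⟨⟨sq'.isoPullback ≪≫ e'.iso, ?_⟩⟩
  rw [Iso.trans_hom, Category.assoc, e'.comm]
  exact sq'.isoPullback_hom_snd

theorem splitting_algClosed [IsAlgClosure k K] (e : BrSev.Splitting f K n) (M : Type u) [Field M] [Algebra k M]
    [IsAlgClosed M] : Nonempty (BrSev.Splitting f M n) := by
  haveI : Algebra.IsAlgebraic k K := IsAlgClosure.isAlgebraic
  let ι : K →ₐ[k] M := IsAlgClosed.lift
  letI : Algebra K M := ι.toRingHom.toAlgebra
  haveI : IsScalarTower k K M := IsScalarTower.of_algebraMap_eq fun x => (ι.commutes x).symm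
  exact splitting_ext e

theorem h1_baseField (e : BrSev.Splitting f K n) :
    Subsingleton (Coh.HH X (Coh.structureModule X) 1) := by
  let a := e.iso.inv ≫ BrSev.proj f K
  have H : IsPullback a (CohB1.ProjSpace.toSpec n K) f (Spec.map (CommRingCat.ofHom (algebraMap k K))) :=
    IsPullback.of_iso (IsPullback.of_hasPullback f _) e.iso (Iso.refl _) (Iso.refl _) (Iso.refl _)
      (by simp [a]) (by simp [e.comm]) (by simp) (by simp)
  haveI : CompactSpace X := QuasiCompact.compactSpace_of_compactSpace f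
  haveI : X.IsSeparated := ⟨by
    rw [show terminal.from X = f ≫ terminal.from _ from Subsingleton.elim _ _]
    infer_instance⟩
  haveI : Coh.IsQCoh (Coh.structureModule X) := QCohLib.isQCoh_unit
  obtain ⟨φ⟩ := RpushLib.nonempty_affBase_bc (A := k) (B := K) H (Coh.structureModule X) 1
  haveI := SerreVanLib.subsingleton_HH_of_iso (KFlatLib.pullUnitIso a) 1 (h1_projSpace n K)
  letI := Module.compHom (Coh.HH X (Coh.structureModule X) 1) (Coh.toGlobal f)
  haveI : Subsingleton (K ⊗[k] Coh.HH X (Coh.structureModule X) 1) := φ.toEquiv.subsingleton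
  refine ⟨fun x y => ?_⟩
  exact Module.FaithfullyFlat.tensorProduct_mk_injective (A := k) (B := K) _ (Subsingleton.elim ((1 : K) ⊗ₜ[k] x) (1 ⊗ₜ[k] y))

/-- Over a separably closed field the twisting sheaf descends. -/
theorem exists_line [IsSepClosed k] [IsAlgClosure k K] (e : BrSev.Splitting f K n) :
    ∃ W : X.Modules, PicF.IsInvertible W ∧ BrSev.IsTwPow e 1 1 W := by
  haveI : Algebra.IsAlgebraic k K := IsAlgClosure.isAlgebraic
  haveI : IsAlgClosed K := IsAlgClosure.isAlgClosed k
  have hlf := AmpleDevLib.isFinLocFree_of_isInvertible (KSMod.isInvertible_twist e 1)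
  obtain ⟨F, hfin, N, hN, ⟨eN⟩⟩ := KSMod.exists_descend_finite f K hlf
  haveI := hfin
  haveI : Algebra.IsAlgebraic k F := Algebra.IsAlgebraic.of_finite k F
  haveI : IsPurelyInseparable k F := inferInstance
  haveI : IsProper (BrSev.bcTo f F) := MorphismProperty.pullback_snd _ _ ‹IsProper f›
  haveI : IsLocallyNoetherian (BrSev.bc f F) := LocallyOfFiniteType.isLocallyNoetherian (BrSev.bcTo f F)
  have hNf : FlatMod.IsFinLocFree N :=
    KSMod.isFinLocFree_of_pb (KSMod.bcUpSq (p := f) (F := F) (K := K)) hN (Groth.Agent.PerfLib.isFinLocFree_of_iso eN.symm hlf)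
  haveI : Surjective (KSMod.bcUp f F K) := (KSMod.bcUpSq (p := f) (F := F) (K := K)).surjective_g
  have hNi : PicF.IsInvertible N :=
    SBTaut.isInvertible_of_pb (KSMod.bcUp f F K) hNf (HilbPolyLib.isInvertible_of_iso eN.symm (KSMod.isInvertible_twist e 1))
  obtain ⟨eF⟩ := projSplitting_up (F := F) e
  haveI : GeometricallyIntegral (BrSev.bcTo f F) := by
    haveI : IsAlgClosure F K := ⟨inferInstance, Algebra.IsAlgebraic.tower_top (K := k) (A := K) (L := F)⟩
    exact SBStable.geometricallyIntegral_of_splitting F (BrSev.bcTo f F) n fun M _ _ _ => splitting_algClosed eF M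
  obtain ⟨d, M, hd, hMf, ⟨eM⟩⟩ := exists_pow f F (h1_baseField eF) hNi
  let Q := Scheme.Modules.pullback (KSMod.bcUp f F K)
  have hMK : BrSev.IsTwPow e 1 d M :=
    ⟨((Scheme.Modules.pullbackCongr (KSMod.bcUp_fst (p := f) (F := F) (K := K))).app M).symm ≪≫
      ((Scheme.Modules.pullbackComp (KSMod.bcUp f F K) (BrSev.proj f F)).app M).symm ≪≫ Q.mapIso eM ≪≫
      PreservesCoproduct.iso Q _ ≪≫ Sigma.mapIso fun _ => eN⟩
  obtain ⟨t⟩ := hMK
  letI : X.Over (Spec (CommRingCat.of k)) := ⟨f⟩
  haveI : IsProper (X ↘ Spec (CommRingCat.of k)) := ‹IsProper f›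
  haveI := CurvLib.isNoetherian k (X := X)
  letI : (BrSev.bc f K).Over (Spec (CommRingCat.of K)) := ⟨BrSev.bcTo f K⟩
  haveI : IsProper (BrSev.bc f K ↘ Spec (CommRingCat.of K)) :=
    inferInstanceAs (IsProper (pullback.snd f (Spec.map (CommRingCat.ofHom (algebraMap k K)))))
  have hMc := Groth.Agent.PerfLib.isCoh_of_isFinLocFree hMf
  haveI := KSMod.finite_hom (k := k) hMc hMc
  haveI := KSMod.indec_twist e 1
  have hM0 : ¬ IsZero M := fun h => by
    obtain ⟨i⟩ : Nonempty (Fin d) := ⟨⟨0, hd⟩⟩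
    refine (KSMod.indec_twist e 1).1 ((IsZero.iff_id_eq_zero _).2 ?_)
    have h1 := (((Scheme.Modules.pullback (BrSev.proj f K)).map_isZero h).of_iso t.symm).eq_of_src
      (Sigma.desc fun _ : Fin d => 𝟙 (e.twist 1)) 0
    simpa using congrArg (fun z => Sigma.ι (fun _ : Fin d => e.twist 1) i ≫ z) h1
  obtain ⟨⟨G, m, hG, hGi, ⟨eG⟩⟩, -⟩ := KSMod.isotypical_pow f K hMf hM0 (KSMod.indec_twist e 1) t
  rcases m with _ | m
  · exact absurd ((KSMod.isZero_pow_zero G).of_iso eG) hM0
  let P := Scheme.Modules.pullback (BrSev.proj f K)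
  haveI : PreservesBinaryBiproducts P := preservesBinaryBiproducts_of_preservesBinaryCoproducts P
  obtain ⟨r, ⟨u⟩⟩ := KSMod.summand_pow (k := K) (ConsLib.isCoh_pullback (BrSev.proj f K) hMc) (KSMod.indec_twist e 1)
    (P.mapIso (eG ≪≫ (biproduct.isoCoproduct _).symm ≪≫ KSMod.splitOff (fun _ : Fin (m + 1) => G) 0) ≪≫ P.mapBiprod _ _) t
  have hGc := Groth.Agent.PerfLib.isCoh_of_isFinLocFree hG
  haveI := hGc.1
  have hr0 : 0 < r := Nat.pos_of_ne_zero fun h0 => by
    subst h0
    exact hGi.1 (KSMod.isZero_of_isZero_pb (KSMod.bcSq f K) ((KSMod.isZero_pow_zero (e.twist 1)).of_iso u))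
  obtain ⟨h1, h2, h3⟩ := SBTw.end_csa (KSMod.bcSq f K) rfl rfl hGc (TwistEmbed.bijective_smul_twist e 1 rfl) hr0 u
  haveI := h1
  haveI := h2
  haveI : FiniteDimensional k (End G) := KSMod.finite_hom hGc hGc
  obtain ⟨q, hq, ⟨Φ⟩⟩ := CSALib.exists_matrix_of_isSepClosed (k := k) (End G)
  have hq1 : q = 1 := by
    by_contra hne
    let i₀ : Fin q := ⟨0, hq⟩
    let i₁ : Fin q := ⟨1, by omega⟩
    let E := Matrix.single i₀ i₀ (1 : k)
    have hE : IsIdempotentElem (Φ.symm E) := by
      show Φ.symm E * Φ.symm E = Φ.symm E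
      rw [← map_mul, Matrix.single_mul_single_same, mul_one]
    have hi : i₀ ≠ i₁ := fun h => by simp [i₀, i₁] at h
    rcases KSMod.idem_end hGi _ hE with h | h
    · have h' : E = 0 := by rw [← Φ.apply_symm_apply E, h, map_zero]
      have := congrFun (congrFun h' i₀) i₀
      simp [E] at this
    · have h' : E = 1 := by rw [← Φ.apply_symm_apply E, h, map_one]
      have := congrFun (congrFun h' i₁) i₁
      simp [E, Matrix.one_apply_eq, hi] at this
  have h4 := Φ.toLinearEquiv.finrank_eq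
  rw [Module.finrank_matrix, Fintype.card_fin, Module.finrank_self, mul_one, hq1, h3] at h4
  obtain rfl : r = 1 := Nat.eq_one_of_mul_eq_one_right h4
  exact ⟨G, SBTaut.isInvertible_of_isTwPow_one e hG ⟨u⟩, ⟨u⟩⟩

end SBSep
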