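import Groth.Agent.PicPnLib.Seesaw
import Groth.Agent.ProjFormLib.Proj
import Groth.Agent.CohCmpLib.FibreRowsBC
import Groth.Agent.HorrocksPnLib.Main
import Groth.Agent.KSModLib.AbsSplit

/-! Direct images of line bundles along purely inseparable extensions of the base field. -/

set_option autoImplicit false
set_option linter.style.haveILetI false
set_option linter.unusedSectionVars false
set_option maxHeartbeats 1000000
universe u

noncomputable section

open CategoryTheory CategoryTheory.Limits AlgebraicGeometry TopologicalSpace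
open KFlatLib (pb)
open W4c1astiltbs12 (pow)

namespace SBSep

theorem subsingleton_fiberH_affine {A B : Scheme.{u}} (q : A ⟶ B) [IsAffineHom q] (F : A.Modules) [Coh.IsQCoh F]
    (y : B) : Subsingleton (CohIII.fiberH q F y 1) := by
  haveI : IsAffineHom (q.fiberToSpecResidueField y) := MorphismProperty.pullback_snd _ _ ‹_›
  haveI : IsAffine (q.fiber y) := isAffine_of_isAffineHom (q.fiberToSpecResidueField y)
  haveI : Coh.IsQCoh (CohIII.fiberMod q F y) := KFlatLib.isQCoh_pullback _ _
  exact QCohLib.subsingleton_HH_affine _ 1 one_pos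

/-- Base change along finite flat squares. -/
theorem nonempty_pb_push_iso {A B A' B' : Scheme.{u}} {q : A ⟶ B} {g : B' ⟶ B} {q' : A' ⟶ B'} {g' : A' ⟶ A}
    (H : IsPullback g' q' q g) [IsFinite q] [Flat q] [LocallyOfFinitePresentation q] (F : A.Modules)
    (hF : FlatMod.IsFinLocFree F) :
    Nonempty (pb g ((Scheme.Modules.pushforward q).obj F) ≅ (Scheme.Modules.pushforward q').obj (pb g' F)) := by
  obtain ⟨hQ, hfp, hfl⟩ := CohCmpLib.locFree_hyps q hF
  haveI := hQ
  haveI := CohCmpLib.isIso_bc0_of_fibre_one hfp hfl H fun z => subsingleton_fiberH_affine q F (g z)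
  exact ⟨asIso (CohBC.bc0 q g q' g' H.w F)⟩

theorem free_push_of_subsingleton {A B : Scheme.{u}} (q : A ⟶ B) [Subsingleton B] (b : B) [IsFinite q] [Flat q]
    [LocallyOfFinitePresentation q] {F : A.Modules} (hF : FlatMod.IsFinLocFree F) :
    ∃ d : ℕ, Nonempty ((Scheme.Modules.pushforward q).obj F ≅ FlatMod.freeMod B d) := by
  obtain ⟨hQ, hfp, hfl⟩ := CohCmpLib.locFree_hyps q hF
  haveI := hQ
  obtain ⟨O, n, hb, hiso⟩ :=
    CohCmpLib.exists_push_free_of_fibre_one hfp hfl b (subsingleton_fiberH_affine q F b)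
  exact ⟨n, HorrocksPn.free_of_subsingleton b ⟨O, hb, hiso⟩⟩

theorem isFinLocFree_push {A B : Scheme.{u}} (q : A ⟶ B) [IsFinite q] [Flat q]
    [LocallyOfFinitePresentation q] {F : A.Modules} (hF : FlatMod.IsFinLocFree F) :
    FlatMod.IsFinLocFree ((Scheme.Modules.pushforward q).obj F) := fun b => by
  obtain ⟨hQ, hfp, hfl⟩ := CohCmpLib.locFree_hyps q hF
  haveI := hQ
  obtain ⟨O, n, hb, hiso⟩ :=
    CohCmpLib.exists_push_free_of_fibre_one hfp hfl b (subsingleton_fiberH_affine q F b)
  exact ⟨O, n, hb, hiso⟩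

variable {k : Type u} [Field k] {X : Scheme.{u}} (f : X ⟶ Spec (CommRingCat.of k)) [IsProper f]
  (L : Type u) [Field L] [Algebra k L] [FiniteDimensional k L] [IsPurelyInseparable k L]

local notation "aL" => Spec.map (CommRingCat.ofHom (algebraMap k L))

theorem subsingleton_two : Subsingleton ↥(pullback aL aL) := by
  haveI : Subsingleton ↥(Spec (CommRingCat.of (TensorProduct k L L))) :=
    (PrimeSpectrum.isHomeomorph_comap_of_isPurelyInseparable k L L).injective.subsingleton
  exact (pullbackSpecIso k L L).hom.homeomorph.injective.subsingleton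

/-- The direct image of a line bundle pulls back to a sum of copies of it. -/
theorem exists_pow [GeometricallyIntegral (BrSev.bcTo f L)]
    (h1 : Subsingleton (Coh.HH (BrSev.bc f L) (Coh.structureModule (BrSev.bc f L)) 1))
    {L₁ : (BrSev.bc f L).Modules} (hL : PicF.IsInvertible L₁) :
    ∃ (d : ℕ) (M : X.Modules), 0 < d ∧ FlatMod.IsFinLocFree M ∧ Nonempty (BrSev.bcMod f L M ≅ pow L₁ d) := by
  let π := BrSev.proj f L
  let t := BrSev.bcTo f L
  haveI : IsProper t := MorphismProperty.pullback_snd _ _ ‹IsProper f›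
  haveI : IsFinite aL := by
    rw [IsFinite.SpecMap_iff]
    exact RingHom.finite_algebraMap.mpr inferInstance
  haveI : Flat aL := by
    rw [HasRingHomProperty.Spec_iff (P := @Flat)]
    exact RingHom.flat_algebraMap_iff.mpr inferInstance
  haveI : LocallyOfFinitePresentation aL := LocallyOfFinitePresentation.iff_locallyOfFiniteType.2 inferInstance
  haveI : IsFinite π := MorphismProperty.pullback_fst _ _ ‹IsFinite aL›
  haveI : Flat π := MorphismProperty.pullback_fst _ _ ‹Flat aL›
  haveI : LocallyOfFinitePresentation π := MorphismProperty.pullback_fst _ _ ‹LocallyOfFinitePresentation aL›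
  haveI := subsingleton_two (k := k) L
  let s : pullback aL aL ⟶ Spec (CommRingCat.of L) := pullback.fst _ _
  let s' : pullback aL aL ⟶ Spec (CommRingCat.of L) := pullback.snd _ _
  let σ : Spec (CommRingCat.of L) ⟶ pullback aL aL := pullback.lift (𝟙 _) (𝟙 _) rfl
  have hσ : σ ≫ s = 𝟙 _ := pullback.lift_fst _ _ _
  have hσ' : σ ≫ s' = 𝟙 _ := pullback.lift_snd _ _ _
  let w := pullback.snd s t
  let v : pullback s t ⟶ BrSev.bc f L := pullback.lift (w ≫ π) (pullback.fst s t ≫ s') (by
    rw [Category.assoc, Category.assoc, show π ≫ f = t ≫ aL from pullback.condition, ← Category.assoc w,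
      ← pullback.condition (f := s) (g := t), Category.assoc, show s ≫ aL = s' ≫ aL from pullback.condition])
  have hv1 : v ≫ π = w ≫ π := pullback.lift_fst _ _ _
  have hv2 : v ≫ t = pullback.fst s t ≫ s' := pullback.lift_snd _ _ _
  have hbig : IsPullback w (v ≫ t) (π ≫ f) aL := by
    rw [hv2, show π ≫ f = t ≫ aL from pullback.condition]
    exact (IsPullback.of_hasPullback s t).flip.paste_vert (IsPullback.of_hasPullback aL aL)
  have sq : IsPullback w v π π :=
    IsPullback.of_bot hbig hv1.symm (IsPullback.of_hasPullback f aL)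
  -- the two pullbacks agree
  let j := PicPnLib.jσ s t σ hσ
  have hj : j ≫ v = 𝟙 _ := by
    refine pullback.hom_ext ?_ ?_
    · rw [Category.assoc, show v ≫ pullback.fst _ _ = w ≫ π from hv1, ← Category.assoc,
        PicPnLib.jσ_snd s t σ hσ, Category.id_comp]
    · rw [Category.assoc, show v ≫ pullback.snd _ _ = pullback.fst s t ≫ s' from hv2, ← Category.assoc,
        PicPnLib.jσ_fst s t σ hσ, Category.assoc, hσ', Category.comp_id, Category.id_comp]
  obtain ⟨Ls, M', hLs, hM', ⟨e⟩⟩ :=
    PicPnLib.exists_product_decomp s t σ hσ h1 (AmpleDevLib.isInvertible_pb v hL)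
  obtain ⟨r'⟩ := PicPnLib.restrict_section s t σ hσ (M := M') hLs
  let eM : M' ≅ L₁ := r'.symm ≪≫ ((Scheme.Modules.pullback j).mapIso e).symm ≪≫
    (Scheme.Modules.pullbackComp j v).app L₁ ≪≫ (Scheme.Modules.pullbackCongr hj).app L₁ ≪≫
    (Scheme.Modules.pullbackId _).app L₁
  let pt : ↥(pullback aL aL) := σ (IsLocalRing.closedPoint L)
  obtain ⟨U, hU, hφ⟩ := (CohCmpLib.invertible_iff_rank_one Ls).1 hLs pt
  obtain ⟨ψ⟩ := HorrocksPn.free_of_subsingleton pt ⟨U, hU, hφ⟩
  let eLs : Ls ≅ Coh.structureModule _ := ψ ≪≫ coproductUniqueIso _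
  let φ : pb v L₁ ≅ pb w L₁ := e ≪≫ HilbPolyLib.congrLeft ((Scheme.Modules.pullback _).mapIso eLs ≪≫
    KFlatLib.pullUnitIso _) _ ≪≫ HilbPolyLib.unitLeft _ ≪≫ (Scheme.Modules.pullback w).mapIso eM
  -- the push forward
  have hlf := AmpleDevLib.isFinLocFree_of_isInvertible hL
  obtain ⟨β⟩ := nonempty_pb_push_iso sq.flip L₁ hlf
  let O₁ := Coh.structureModule (BrSev.bc f L)
  have hO : FlatMod.IsFinLocFree O₁ := AmpleDevLib.isFinLocFree_of_isInvertible CurvLib.isInvertible_structureModule
  obtain ⟨β₀⟩ := nonempty_pb_push_iso sq.flip O₁ hO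
  obtain ⟨β₁⟩ := nonempty_pb_push_iso (IsPullback.of_hasPullback f aL).flip
    (Coh.structureModule (Spec (CommRingCat.of L)))
    (AmpleDevLib.isFinLocFree_of_isInvertible CurvLib.isInvertible_structureModule)
  haveI : Subsingleton ↥(Spec (CommRingCat.of k)) := inferInstanceAs (Subsingleton (PrimeSpectrum k))
  obtain ⟨d, ⟨δ⟩⟩ := free_push_of_subsingleton aL (IsLocalRing.closedPoint k)
    (F := Coh.structureModule (Spec (CommRingCat.of L)))
    (AmpleDevLib.isFinLocFree_of_isInvertible CurvLib.isInvertible_structureModule)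
  let Pπ := Scheme.Modules.pullback π
  let Pf := Scheme.Modules.pullback f
  -- the direct image of the structure sheaf is free
  let e₀ : (Scheme.Modules.pushforward π).obj O₁ ≅ FlatMod.freeMod X d :=
    (Scheme.Modules.pushforward π).mapIso (KFlatLib.pullUnitIso t).symm ≪≫ β₁.symm ≪≫ Pf.mapIso δ ≪≫
      PreservesCoproduct.iso Pf _ ≪≫ Sigma.mapIso fun _ => KFlatLib.pullUnitIso f
  let e₁ : (Scheme.Modules.pushforward w).obj (Coh.structureModule _) ≅ FlatMod.freeMod (BrSev.bc f L) d :=
    (Scheme.Modules.pushforward w).mapIso (KFlatLib.pullUnitIso v).symm ≪≫ β₀.symm ≪≫ Pπ.mapIso e₀ ≪≫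
      PreservesCoproduct.iso Pπ _ ≪≫ Sigma.mapIso fun _ => KFlatLib.pullUnitIso π
  haveI := ProjFormLib.isIso_projApp w hlf (Coh.structureModule _)
  let TL := CurvLib.tensorLeft' L₁
  haveI : TL.Additive := inferInstance
  let e₂ : (Scheme.Modules.pushforward w).obj (pb w L₁) ≅ pow L₁ d :=
    (Scheme.Modules.pushforward w).mapIso (PicPnLib.unitRight _).symm ≪≫
      (asIso (ProjFormLib.projApp w L₁ (Coh.structureModule _))).symm ≪≫ TL.mapIso e₁ ≪≫
      TL.mapIso (biproduct.isoCoproduct _).symm ≪≫ TL.mapBiproduct _ ≪≫ biproduct.isoCoproduct _ ≪≫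
      Sigma.mapIso fun _ => PicPnLib.unitRight L₁
  let eπ : pb π ((Scheme.Modules.pushforward π).obj L₁) ≅ pow L₁ d :=
    β ≪≫ (Scheme.Modules.pushforward w).mapIso φ ≪≫ e₂
  refine ⟨d, _, Nat.pos_of_ne_zero fun hd => ?_, isFinLocFree_push π hlf, ⟨eπ⟩⟩
  subst hd
  have hz : IsZero ((Scheme.Modules.pushforward aL).obj (Coh.structureModule (Spec (CommRingCat.of L)))) :=
    (KSMod.isZero_of_isEmpty fun _ : Fin 0 => Coh.structureModule _).of_iso (δ ≪≫ (biproduct.isoCoproduct _).symm)
  have h0 : (1 : Γ(Spec (CommRingCat.of L), ⊤)) = 0 := by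
    have := congr(Scheme.Modules.Hom.app $((IsZero.iff_id_eq_zero _).1 hz) (⊤ : (Spec (CommRingCat.of k)).Opens)
      (show Γ((Scheme.Modules.pushforward aL).obj (Coh.structureModule (Spec (CommRingCat.of L))), ⊤) from
        (1 : Γ(Spec (CommRingCat.of L), ⊤))))
    exact this
  exact one_ne_zero h0

end SBSep
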